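import Cfsg.Agent.H727.TC.Kaw
import Cfsg.Agent.H210.TC.Row
import Cfsg.Agent.H448.Van.Rows
import Cfsg.Agent.H279.OZ.Kaw
import Cfsg.Agent.Nodes.RGDTwAll

/-!
# S2464 + S2452: the rows `E₆`, `E₇`, `²E₆` from Kawanaka's and Gow's theorems (helper504)

* `row3_of_isol` : two isolated primes: `Row3` (the cube condition from Gow's theorem);
* `row3_of_good` : two good primes (`H448.Van.Good`);
* `row3_e6`, `row3_e7`, `row3_te6`, `six_e6`, `six_e7`, `six_te6`.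
-/

set_option autoImplicit false

open Cfsg Subgroup

namespace Cfsg.Agent.H504.TC

open Cfsg.Agent.H727.TC Cfsg.Agent.H448.Van Cfsg.Agent.H730.OZ Cfsg.Lie

universe u

section abs

variable {G : Type u} [Group G] [Finite G]

theorem cop_six {r : ℕ} (hr : r.Prime) (h : 4 ≤ r) : Nat.Coprime r 6 := by
  rw [Nat.Prime.coprime_iff_not_dvd hr]
  intro h1
  have h2 : r ∣ 2 * 3 := h1
  rcases hr.dvd_mul.1 h2 with h3 | h3
  · have := Nat.le_of_dvd (by norm_num) h3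
    omega
  · have := Nat.le_of_dvd (by norm_num) h3
    omega

/-- `x⁻¹` is isolated if `x` is, as far as the order of the centralizer is concerned -/
theorem card_inv {p r : ℕ} (hp : p.Prime) {x : G} (hx : Isol G p r x) :
    x⁻¹ ≠ 1 ∧ ¬ p ∣ orderOf x⁻¹ := by
  refine ⟨fun h => ?_, fun h => ?_⟩
  · rw [inv_eq_one] at h
    have h1 := hx.ord
    rw [h, orderOf_one] at h1
    exact hx.prime.one_lt.ne h1
  · rw [orderOf_inv, hx.ord] at h
    exact hx.ne ((Nat.prime_dvd_prime_iff_eq hp hx.prime).1 h).symm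

/-- **Two isolated primes**: `Row3`. -/
theorem row3_of_isol {p : ℕ} (hp : p.Prime) (hG : IsLieTypeChar p G) (hK : Kaw p G) {r₁ r₂ : ℕ}
    {x y : G} (hx : Isol G p r₁ x) (hy : Isol G p r₂ y) (h4 : 4 ≤ r₁) (h5 : 4 ≤ r₂)
    (ha : ∀ (m : ℕ) (e : ℤ), (e = 1 ∨ e = -1) → 0 < m → m < 2 * (Nat.card G).factorization p →
      (r₁ : ℤ) ∣ e * p ^ m - 1 → (r₂ : ℤ) ∣ e * p ^ m - 1 → False) : H210.TC.Row3 G := by
  have h2 := two_of_isol hp hG hK hx hy ha
  refine ⟨x, y, by rw [hx.ord]; exact hx.prime, by rw [hx.ord]; exact cop_six hx.prime h4, by rw [hy.ord]; exact hy.prime,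
    by rw [hy.ord]; exact cop_six hy.prime h5, h2, fun g => ?_⟩
  have hgow : ∀ z : G, z ≠ 1 → ¬ p ∣ orderOf z → ∃ u v : G, z = u * x * u⁻¹ * (v * x * v⁻¹) := by
    intro z hz hzp
    obtain ⟨u, v, e⟩ := H330.Gow.gow hp hG (hx.card hp) (hx.card hp) hz hzp
    exact ⟨u, v, e.symm⟩
  by_cases hg : g = 1
  · obtain ⟨h6, h7⟩ := card_inv hp hx
    obtain ⟨u, v, e⟩ := hgow x⁻¹ h6 h7
    refine ⟨1, u, v, ?_⟩
    rw [hg, mul_assoc, ← e]
    group
  · obtain ⟨u, v, e⟩ := h2 g hg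
    have h6 : y ≠ 1 := by
      intro h
      have h1 := hy.ord
      rw [h, orderOf_one] at h1
      exact hy.prime.one_lt.ne h1
    have h7 : ¬ p ∣ orderOf y := by
      rw [hy.ord]
      exact fun h => hy.ne ((Nat.prime_dvd_prime_iff_eq hp hy.prime).1 h).symm
    obtain ⟨a, b, e'⟩ := hgow y h6 h7
    refine ⟨u, v * a, v * b, ?_⟩
    rw [e]
    conv_lhs => rw [e']
    group

/-- a prime `r` with `p` of order `D ≥ 3` modulo `r` -/
theorem four_le {p r D : ℕ} (hr : r.Prime) (hD : 3 ≤ D) (hord : orderOf (p : ZMod r) = D) : 4 ≤ r := by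
  have : Fact r.Prime := ⟨hr⟩
  have h2 : orderOf (p : ZMod r) ∣ r - 1 := by
    apply orderOf_dvd_of_pow_eq_one
    apply ZMod.pow_card_sub_one_eq_one
    intro h3
    rw [h3] at hord
    have h4 : orderOf (0 : ZMod r) = 0 := orderOf_eq_zero_iff'.2 fun n hn h => by
      rw [zero_pow hn.ne'] at h
      exact zero_ne_one h
    omega
  have h3 := hr.two_le
  have h4 := Nat.le_of_dvd (by omega) h2
  omega

/-- the consequences of the congruence -/
theorem ords' {p r D m : ℕ} {e : ℤ} (hr : r.Prime) (hord : orderOf (p : ZMod r) = D) (hD : 3 ≤ D)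
    (h1 : (r : ℤ) ∣ e * (p : ℤ) ^ m - 1) (he : e = 1 ∨ e = -1) :
    D ∣ 2 * m ∧ (e = -1 → ¬ D ∣ m) ∧ (e = 1 → D ∣ m) := by
  have h4 := four_le hr hD hord
  have h1' : (r : ℤ) ∣ e * (p : ℤ) ^ m - (p : ℤ) ^ 0 := by rwa [pow_zero]
  rcases he with rfl | rfl
  · have h2 := ord_one hord h1'
    exact ⟨h2.mul_left 2, fun h => absurd h (by norm_num), fun _ => h2⟩
  · obtain ⟨h2, h3⟩ := ord_neg hord h1'
    exact ⟨h2, fun _ => h3 (by omega), fun h => absurd h (by norm_num)⟩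

/-- **Two good primes**: `Row3`. -/
theorem row3_of_good {p : ℕ} (hp : p.Prime) (hG : IsLieTypeChar p G) (hK : Kaw p G) {r s D E N : ℕ}
    (hr : Good G p r) (hs : Good G p s) (hro : orderOf (p : ZMod r) = D) (hso : orderOf (p : ZMod s) = E)
    (hD : 3 ≤ D) (hE : 3 ≤ E) (hN : 2 * (Nat.card G).factorization p = N)
    (hmid : ∀ (m : ℕ) (e : ℤ), (e = 1 ∨ e = -1) → 0 < m → m < N → D ∣ 2 * m → E ∣ 2 * m → (e = -1 → ¬ D ∣ m) →
      (e = 1 → D ∣ m ∧ E ∣ m) → False) : H210.TC.Row3 G := by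
  have h4 := four_le hr.prime hD hro
  have h5 := four_le hs.prime hE hso
  obtain ⟨x, hx⟩ := Isol.of_iso hr.iso (by omega)
  obtain ⟨y, hy⟩ := Isol.of_iso hs.iso (by omega)
  refine row3_of_isol hp hG hK hx hy h4 h5 fun m e he hm hm2 h6 h7 => ?_
  obtain ⟨a1, a2, a3⟩ := ords' hr.prime hro hD h6 he
  obtain ⟨b1, b2, b3⟩ := ords' hs.prime hso hE h7 he
  exact hmid m e he hm (by omega) a1 b1 a2 fun h => ⟨a3 h, b3 h⟩

end abs

/-! ### `E₆` -/

section E6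

variable {F : Type} [Field F] [Fintype F] {p a : ℕ}

theorem v_E6 (hp : p.Prime) (ha : 0 < a) (hF : Fintype.card F = p ^ a) :
    (Nat.card ↥(chevE6.group F)).factorization p = 36 * a := by
  have hG := Cfsg.Agent.S1063.result hF
  have hL : (([2, 5, 6, 8, 9, 12] : List ℕ).map fun d => (p ^ a) ^ d - 1).prod = ((p ^ a) ^ 2 - 1) * ((p ^ a) ^ 5 - 1) *
      ((p ^ a) ^ 6 - 1) * ((p ^ a) ^ 8 - 1) * ((p ^ a) ^ 9 - 1) * ((p ^ a) ^ 12 - 1) := by
    simp only [List.map_cons, List.map_nil, List.prod_cons, List.prod_nil, mul_one, mul_assoc]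
  have hG' : Nat.gcd 3 (p ^ a - 1) * Nat.card ↥(chevE6.group F) =
      p ^ (36 * a) * (([2, 5, 6, 8, 9, 12] : List ℕ).map fun d => (p ^ a) ^ d - 1).prod := by
    rw [hG, hL]
    simp only [← pow_mul]
    rw [mul_comm a 36]
    ring
  exact fact_of hp (gcd_coprime hp ha (Or.inl (Nat.gcd_dvd_right _ _)))
    (not_dvd_prod hp ha (fun d hd => by simp at hd; omega)) Nat.card_pos.ne' hG'

theorem row3_E6_group [Fact p.Prime] [CharP F p] (ha : 0 < a) (hF : Fintype.card F = p ^ a) :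
    H210.TC.Row3 ↥(chevE6.group F) := by
  have hp : p.Prime := Fact.out
  have hG : IsLieTypeChar p ↥(chevE6.group F) := by
    refine Or.inr (Or.inr (Or.inr (Or.inr (Or.inr (Or.inr (Or.inl ⟨F, inferInstance, inferInstance, inferInstance, ?_⟩))))))
    exact Or.inr (Or.inr (Or.inl ⟨MulEquiv.refl _⟩))
  have hK := H279.OZ.kaw_of_hasRGD hp (Nodes.RGDChev.hasRGD_E6 F p)
  obtain ⟨r, hr, hro⟩ := good_E6_9 hp ha hF
  obtain ⟨s, hs, hso⟩ := good_E6_8 hp ha hF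
  refine row3_of_good hp hG hK hr hs hro hso (by omega) (by omega) (N := 72 * a) (by rw [v_E6 hp ha hF]; ring)
    fun m e he hm hm2 h1 h2 h3 h4 => mid_E6 ha hm hm2 (Or.inl rfl) h1 h2 h3 h4 he

end E6

/-! ### `E₇` -/

section E7

variable {F : Type} [Field F] [Fintype F] {p a : ℕ}

theorem v_E7 (hp : p.Prime) (ha : 0 < a) (hF : Fintype.card F = p ^ a) :
    (Nat.card ↥(chevE7.group F)).factorization p = 63 * a := by
  have hG := Cfsg.Agent.S1064.result hF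
  have hL : (([2, 6, 8, 10, 12, 14, 18] : List ℕ).map fun d => (p ^ a) ^ d - 1).prod = ((p ^ a) ^ 2 - 1) *
      ((p ^ a) ^ 6 - 1) * ((p ^ a) ^ 8 - 1) * ((p ^ a) ^ 10 - 1) * ((p ^ a) ^ 12 - 1) * ((p ^ a) ^ 14 - 1) *
      ((p ^ a) ^ 18 - 1) := by
    simp only [List.map_cons, List.map_nil, List.prod_cons, List.prod_nil, mul_one, mul_assoc]
  have hG' : Nat.gcd 2 (p ^ a - 1) * Nat.card ↥(chevE7.group F) =
      p ^ (63 * a) * (([2, 6, 8, 10, 12, 14, 18] : List ℕ).map fun d => (p ^ a) ^ d - 1).prod := by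
    rw [hG, hL]
    simp only [← pow_mul]
    rw [mul_comm a 63]
    ring
  exact fact_of hp (gcd_coprime hp ha (Or.inl (Nat.gcd_dvd_right _ _)))
    (not_dvd_prod hp ha (fun d hd => by simp at hd; omega)) Nat.card_pos.ne' hG'

theorem row3_E7_group [Fact p.Prime] [CharP F p] (ha : 0 < a) (hF : Fintype.card F = p ^ a) :
    H210.TC.Row3 ↥(chevE7.group F) := by
  have hp : p.Prime := Fact.out
  have hG : IsLieTypeChar p ↥(chevE7.group F) := by
    refine Or.inr (Or.inr (Or.inr (Or.inr (Or.inr (Or.inr (Or.inl ⟨F, inferInstance, inferInstance, inferInstance, ?_⟩))))))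
    exact Or.inr (Or.inr (Or.inr (Or.inl ⟨MulEquiv.refl _⟩)))
  have hK := H279.OZ.kaw_of_hasRGD hp (Nodes.RGDChev.hasRGD_E7 F p)
  obtain ⟨r, hr, hro⟩ := good_E7_7 hp ha hF
  obtain ⟨s, hs, hso⟩ := good_E7_18 hp ha hF
  refine row3_of_good hp hG hK hr hs hro hso (by omega) (by omega) (N := 126 * a) (by rw [v_E7 hp ha hF]; ring)
    fun m e he hm hm2 h1 h2 h3 h4 => mid_E7 ha hm hm2 h1 h2 h3 h4 he

end E7

/-! ### `²E₆` -/

section TE6

variable {K : Type} [Field K] [Fintype K] {p a q : ℕ}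

theorem v_2E6 (hp : p.Prime) (ha : 0 < a) (hq : q = p ^ a) (hF : Fintype.card K = q ^ 2) :
    (Nat.card ↥(twistedE6 K q)).factorization p = 36 * a := by
  have hqp : IsPrimePow q := by rw [hq]; exact hp.isPrimePow.pow ha.ne'
  have hG := Cfsg.Agent.S1066.result hqp hF
  have hL : (([2, 10, 6, 8, 18, 12] : List ℕ).map fun d => (p ^ a) ^ d - 1).prod = ((p ^ a) ^ 2 - 1) *
      ((p ^ a) ^ 10 - 1) * ((p ^ a) ^ 6 - 1) * ((p ^ a) ^ 8 - 1) * ((p ^ a) ^ 18 - 1) * ((p ^ a) ^ 12 - 1) := by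
    simp only [List.map_cons, List.map_nil, List.prod_cons, List.prod_nil, mul_one, mul_assoc]
  have hsq : ∀ j, q ^ (2 * j) - 1 = (q ^ j - 1) * (q ^ j + 1) := by
    intro j
    have h1 : 1 ≤ q ^ j := Nat.one_le_pow _ _ hqp.pos
    obtain ⟨c, hc⟩ : ∃ c, q ^ j = c + 1 := ⟨q ^ j - 1, by omega⟩
    rw [mul_comm 2 j, pow_mul, hc, Nat.add_sub_cancel, show (c + 1) ^ 2 = c * (c + 1 + 1) + 1 by ring,
      Nat.add_sub_cancel]
  have h10 := hsq 5
  have h18 := hsq 9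
  norm_num at h10 h18
  have hG' : (Nat.gcd 3 (q + 1) * ((q ^ 5 - 1) * (q ^ 9 - 1))) * Nat.card ↥(twistedE6 K q) =
      p ^ (36 * a) * (([2, 10, 6, 8, 18, 12] : List ℕ).map fun d => (p ^ a) ^ d - 1).prod := by
    rw [hL, ← hq, h10, h18]
    calc (Nat.gcd 3 (q + 1) * ((q ^ 5 - 1) * (q ^ 9 - 1))) * Nat.card ↥(twistedE6 K q)
        = (Nat.gcd 3 (q + 1) * Nat.card ↥(twistedE6 K q)) * ((q ^ 5 - 1) * (q ^ 9 - 1)) := by ring
      _ = (q ^ 36 * (q ^ 2 - 1) * (q ^ 5 + 1) * (q ^ 6 - 1) * (q ^ 8 - 1) * (q ^ 9 + 1) * (q ^ 12 - 1)) *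
          ((q ^ 5 - 1) * (q ^ 9 - 1)) := by rw [hG]
      _ = _ := by
        rw [hq, ← pow_mul, mul_comm a 36]
        ring
  have hpL : ¬ p ∣ (([5, 9] : List ℕ).map fun d => (p ^ a) ^ d - 1).prod :=
    not_dvd_prod hp ha (fun d hd => by simp at hd; omega)
  have hL2 : (([5, 9] : List ℕ).map fun d => (p ^ a) ^ d - 1).prod = (q ^ 5 - 1) * (q ^ 9 - 1) := by
    simp only [List.map_cons, List.map_nil, List.prod_cons, List.prod_nil, mul_one, ← hq]
  rw [hL2] at hpL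
  have hpg : ¬ p ∣ Nat.gcd 3 (q + 1) * ((q ^ 5 - 1) * (q ^ 9 - 1)) := by
    intro h
    rcases hp.dvd_mul.1 h with h | h
    · exact gcd_coprime hp ha (Or.inr (by rw [← hq]; exact Nat.gcd_dvd_right _ _)) h
    · exact hpL h
  exact fact_of hp hpg (not_dvd_prod hp ha (fun d hd => by simp at hd; omega)) Nat.card_pos.ne' hG'

theorem row3_2E6_group [Fact p.Prime] [CharP K p] (ha : 0 < a) (hq : q = p ^ a) (hF : Fintype.card K = q ^ 2) :
    H210.TC.Row3 ↥(twistedE6 K q) := by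
  have hp : p.Prime := Fact.out
  have hqp : IsPrimePow q := by rw [hq]; exact hp.isPrimePow.pow ha.ne'
  have hG : IsLieTypeChar p ↥(twistedE6 K q) := by
    refine Or.inr (Or.inr (Or.inr (Or.inr (Or.inr (Or.inr (Or.inr (Or.inl ⟨K, inferInstance, inferInstance, inferInstance, q,
      hqp, Or.inl ⟨hF, ⟨MulEquiv.refl _⟩⟩⟩)))))))
  have hK := H279.OZ.kaw_of_hasRGD hp (Nodes.RGDTwE6.hasRGD hqp hF p)
  obtain ⟨r, hr, hro⟩ := good_2E6_18 hp ha hq hF
  obtain ⟨s, hs, hso⟩ := good_2E6_8 hp ha hq hF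
  refine row3_of_good hp hG hK hr hs hro hso (by omega) (by omega) (N := 72 * a) (by rw [v_2E6 hp ha hq hF]; ring)
    fun m e he hm hm2 h1 h2 h3 h4 => mid_E6 ha hm hm2 (Or.inr rfl) h1 h2 h3 h4 he

end TE6

/-! ### the rows -/

section rows

variable {S : Type u} [Group S]

/-- **`E₆(q)`** -/
theorem row3_e6 (h : Lie.IsoChevE6 S) : H210.TC.Row3 S := by
  obtain ⟨F, i1, i2, ⟨e⟩⟩ := h
  obtain ⟨p, hc⟩ := CharP.exists F
  obtain ⟨a, hp, ha⟩ := FiniteField.card F p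
  have : Fact p.Prime := ⟨hp⟩
  exact (row3_E6_group a.pos ha).of_equiv e

/-- **`E₇(q)`** -/
theorem row3_e7 (h : Lie.IsoE7 S) : H210.TC.Row3 S := by
  obtain ⟨F, i1, i2, ⟨e⟩⟩ := h
  obtain ⟨p, hc⟩ := CharP.exists F
  obtain ⟨a, hp, ha⟩ := FiniteField.card F p
  have : Fact p.Prime := ⟨hp⟩
  exact (row3_E7_group a.pos ha).of_equiv e

/-- **`²E₆(q)`** -/
theorem row3_te6 (h : Lie.Iso2E6 S) : H210.TC.Row3 S := by
  obtain ⟨K, i1, i2, q, hq, hK, ⟨e⟩⟩ := h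
  obtain ⟨p, hc⟩ := CharP.exists K
  obtain ⟨b, hp, hb⟩ := FiniteField.card K p
  obtain ⟨r, a, hr, ha, rfl⟩ := hq
  have hr' : r.Prime := hr.nat_prime
  have hrp : r = p := by
    have h1 : r ∣ p ^ (b : ℕ) := by
      rw [← hb, hK]
      exact (dvd_pow_self r ha.ne').trans (dvd_pow_self _ two_ne_zero)
    exact (Nat.prime_dvd_prime_iff_eq hr' hp).1 (hr'.dvd_of_dvd_pow h1)
  subst hrp
  have : Fact r.Prime := ⟨hr'⟩
  exact (row3_2E6_group ha rfl hK).of_equiv e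

theorem six_e6 (h : Lie.IsoChevE6 S) : ∃ x y : S, Nat.Coprime (orderOf x) 6 ∧ Nat.Coprime (orderOf y) 6 ∧
    ∀ g : S, g ≠ 1 → ∃ u v : S, g = (u * x * u⁻¹) * (v * y * v⁻¹) := (row3_e6 h).s2464

theorem six_e7 (h : Lie.IsoE7 S) : ∃ x y : S, Nat.Coprime (orderOf x) 6 ∧ Nat.Coprime (orderOf y) 6 ∧
    ∀ g : S, g ≠ 1 → ∃ u v : S, g = (u * x * u⁻¹) * (v * y * v⁻¹) := (row3_e7 h).s2464

theorem six_te6 (h : Lie.Iso2E6 S) : ∃ x y : S, Nat.Coprime (orderOf x) 6 ∧ Nat.Coprime (orderOf y) 6 ∧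
    ∀ g : S, g ≠ 1 → ∃ u v : S, g = (u * x * u⁻¹) * (v * y * v⁻¹) := (row3_te6 h).s2464

end rows

end Cfsg.Agent.H504.TC
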